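import Cfsg.Agent.Lib.SL2.CommTrans
import Cfsg.Agent.S0183
import Cfsg.Agent.S0338
import Cfsg.Agent.S0340
import Cfsg.Agent.S1473

/-!
# The strongly embedded configuration of a group with TI centralisers
-/

set_option autoImplicit false
set_option linter.unusedSectionVars false

namespace Cfsg.Agent.Recog.TICent

open MulAction

/-- A strongly embedded subgroup `N` with a normal nilpotent subgroup `A` containing its centralisers. -/
structure Dat (G : Type*) [Group G] where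
  /-- the strongly embedded subgroup -/
  N : Subgroup G
  /-- its kernel -/
  A : Subgroup G
  /-- an involution -/
  t : G
  le : A ≤ N
  ti : ∀ a ∈ A, a ≠ 1 → ∀ c : G, Commute c a → c ∈ A
  norm : ∀ n ∈ N, ∀ a ∈ A, n * a * n⁻¹ ∈ A
  tiN : ∀ g a : G, a ∈ A → a ≠ 1 → g⁻¹ * a * g ∈ A → g ∈ N
  ord : ∀ n ∈ N, orderOf n ∣ Nat.card A → n ∈ A
  ht : orderOf t = 2
  htA : t ∈ A
  invol_mem : ∀ u : G, orderOf u = 2 → u ∈ N → u ∈ A
  se : Cfsg.IsStronglyEmbedded N
  ne : N ≠ A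

namespace Dat

variable {G : Type*} [Group G] [Finite G] (d : Dat G)

/-- The base point. -/
def base : G ⧸ d.N := ((1 : G) : G ⧸ d.N)

theorem smul_base_iff (g : G) : g • d.base = d.base ↔ g ∈ d.N := by
  rw [base, MulAction.Quotient.smul_coe, smul_eq_mul, mul_one, QuotientGroup.eq, mul_one, inv_mem_iff]

theorem semireg {a : G} (ha : a ∈ d.A) {y : G ⧸ d.N} (hy : y ≠ d.base) (h : a • y = y) : a = 1 := by
  obtain ⟨g, rfl⟩ := QuotientGroup.mk_surjective y
  by_contra ha1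
  rw [MulAction.Quotient.smul_coe, smul_eq_mul, eq_comm, QuotientGroup.eq, ← mul_assoc] at h
  have hA : g⁻¹ * a * g ∈ d.A := d.ord _ h (by
    have e : orderOf (g⁻¹ * a * g) = orderOf a := by
      rw [show g⁻¹ * a * g = MulAut.conj g⁻¹ a by simp, MulEquiv.orderOf_eq]
    rw [e]
    exact Subgroup.orderOf_dvd_natCard _ ha)
  refine hy ?_
  rw [base, QuotientGroup.eq, mul_one, inv_mem_iff]
  exact d.tiN g a ha ha1 hA

/-- The involutions of `N`. -/
abbrev T : Type _ := {s : G // orderOf s = 2 ∧ s ∈ d.N}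

theorem two_le_T : 2 ≤ Nat.card d.T := by
  obtain ⟨n, hnN, hnA⟩ : ∃ n ∈ d.N, n ∉ d.A := by
    by_contra h
    push Not at h
    exact d.ne (le_antisymm h d.le)
  have ht1 : d.t ≠ 1 := fun h => by
    have := d.ht; rw [h, orderOf_one] at this; norm_num at this
  have hne : n * d.t * n⁻¹ ≠ d.t := fun h => hnA (d.ti _ d.htA ht1 n (mul_inv_eq_iff_eq_mul.1 h))
  have ho : orderOf (n * d.t * n⁻¹) = 2 := by
    rw [← MulAut.conj_apply, MulEquiv.orderOf_eq]; exact d.ht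
  haveI : Nontrivial d.T := ⟨⟨⟨_, d.ht, d.le d.htA⟩, ⟨_, ho, d.le (d.norm n hnN _ d.htA)⟩,
    fun h => hne (congrArg Subtype.val h).symm⟩⟩
  exact Finite.one_lt_card

theorem card_swap {x y : G ⧸ d.N} (hxy : x ≠ y) :
    Nat.card {i : G // orderOf i = 2 ∧ i • x = y} = Nat.card d.T :=
  Cfsg.Agent.S1224.result d.N d.se x y hxy

theorem exists_swap {x y : G ⧸ d.N} (hxy : x ≠ y) :
    ∃ i : G, orderOf i = 2 ∧ i • x = y ∧ i • y = x ∧ i * i = 1 := by
  have h := d.card_swap hxy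
  have h2 := d.two_le_T
  obtain ⟨⟨i, hi, hix⟩⟩ : Nonempty {i : G // orderOf i = 2 ∧ i • x = y} :=
    (Nat.card_pos_iff.1 (show 0 < Nat.card {i : G // orderOf i = 2 ∧ i • x = y} by omega)).1
  have hii : i * i = 1 := by rw [← pow_two, ← hi, pow_orderOf_eq_one]
  exact ⟨i, hi, hix, by rw [← hix, ← mul_smul, hii, one_smul], hii⟩

/-- The two-point stabiliser. -/
abbrev D (y : G ⧸ d.N) : Subgroup G := d.N ⊓ stabilizer G y

theorem D_inf_A {y : G ⧸ d.N} (hy : y ≠ d.base) {a : G} (ha : a ∈ d.A) (hD : a ∈ d.D y) : a = 1 :=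
  d.semireg ha hy hD.2

theorem free {y : G ⧸ d.N} (hy : y ≠ d.base) {g s : G} (hg : g ∈ d.D y) (hs : orderOf s = 2)
    (hsN : s ∈ d.N) (h : g * s * g⁻¹ = s) : g = 1 := by
  have hs1 : s ≠ 1 := fun e => by rw [e, orderOf_one] at hs; norm_num at hs
  exact d.D_inf_A hy (d.ti s (d.invol_mem s hs hsN) hs1 g (mul_inv_eq_iff_eq_mul.1 h)) hg

theorem card_D {y : G ⧸ d.N} (hy : y ≠ d.base) : Nat.card (d.D y) = Nat.card d.T := by
  obtain ⟨u, hu, hux, -, -⟩ := d.exists_swap (Ne.symm hy)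
  have huN : u ∉ d.N := fun h => hy (hux.symm.trans ((d.smul_base_iff u).2 h))
  let f : d.D y → d.T := fun g => ⟨g * d.t * (g : G)⁻¹,
    by rw [← MulAut.conj_apply, MulEquiv.orderOf_eq]; exact d.ht,
    mul_mem (mul_mem g.2.1 (d.le d.htA)) (inv_mem g.2.1)⟩
  refine Nat.card_congr (Equiv.ofBijective f ⟨fun g g' h => ?_, fun s => ?_⟩)
  · have e : (g : G) * d.t * (g : G)⁻¹ = g' * d.t * (g' : G)⁻¹ := congrArg Subtype.val h
    have := d.free hy (g := (g' : G)⁻¹ * g) (mul_mem (inv_mem g'.2) g.2) d.ht (d.le d.htA) (by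
      calc (g' : G)⁻¹ * g * d.t * ((g' : G)⁻¹ * g)⁻¹ = (g' : G)⁻¹ * (g * d.t * (g : G)⁻¹) * g' := by group
        _ = (g' : G)⁻¹ * (g' * d.t * (g' : G)⁻¹) * g' := by rw [e]
        _ = d.t := by group)
    exact Subtype.ext (inv_mul_eq_one.1 this).symm
  · obtain ⟨g, ⟨hgN, n, hn, hgn⟩, hg⟩ := (Cfsg.Agent.S1225.result d.N d.se u hu huN d.t s.1 d.ht
      (d.le d.htA) s.2.1 s.2.2).1
    change u * n * u⁻¹ = g at hgn
    refine ⟨⟨g, hgN, ?_⟩, Subtype.ext hg⟩
    show g • y = y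
    rw [← hgn, ← hux, ← mul_smul, inv_mul_cancel_right, mul_smul, (d.smul_base_iff n).2 hn]

theorem inverts {y : G ⧸ d.N} (hy : y ≠ d.base) {g u : G} (hg : g ∈ d.D y) (hu : orderOf u = 2)
    (hux : u • d.base = y) : u * g * u⁻¹ = g⁻¹ := by
  have huu : u * u = 1 := by rw [← pow_two, ← hu, pow_orderOf_eq_one]
  have huy : u • y = d.base := by rw [← hux, ← mul_smul, huu, one_smul]
  let f : {i : G // orderOf i = 2 ∧ i • d.base = y} → d.D y := fun i => ⟨u * i.1, by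
    refine (d.smul_base_iff _).1 ?_
    rw [mul_smul, i.2.2, huy], by
    show (u * i.1) • y = y
    obtain ⟨i, hi, hix⟩ := i
    have hii : i * i = 1 := by rw [← pow_two, ← hi, pow_orderOf_eq_one]
    rw [mul_smul, show i • y = d.base by rw [← hix, ← mul_smul, hii, one_smul], hux]⟩
  have hf : Function.Injective f := fun i j h =>
    Subtype.ext (mul_left_cancel (congrArg Subtype.val h))
  have hb := (Nat.bijective_iff_injective_and_card f).2
    ⟨hf, by rw [d.card_swap (Ne.symm hy), d.card_D hy]⟩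
  obtain ⟨i, hi⟩ := hb.2 ⟨g, hg⟩
  have hi' : u * i.1 = g := congrArg Subtype.val hi
  have hii : i.1 * i.1 = 1 := by
    rw [← pow_two]; exact orderOf_dvd_iff_pow_eq_one.1 i.2.1.dvd
  rw [← hi', inv_eq_of_mul_eq_one_right huu, _root_.mul_inv_rev, inv_eq_of_mul_eq_one_right huu,
    inv_eq_of_mul_eq_one_right hii, ← mul_assoc u u, huu, one_mul]

theorem comm_D {y : G ⧸ d.N} (hy : y ≠ d.base) {g g' : G} (hg : g ∈ d.D y) (hg' : g' ∈ d.D y) :
    g * g' = g' * g := by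
  obtain ⟨u, hu, hux, -, -⟩ := d.exists_swap (Ne.symm hy)
  have h := d.inverts hy (mul_mem hg hg') hu hux
  rw [show u * (g * g') * u⁻¹ = u * g * u⁻¹ * (u * g' * u⁻¹) by group, d.inverts hy hg hu hux,
    d.inverts hy hg' hu hux, ← mul_inv_rev, inv_inj] at h
  exact h.symm

theorem decomp {y : G ⧸ d.N} (hy : y ≠ d.base) {n : G} (hn : n ∈ d.N) :
    ∃ a ∈ d.A, ∃ g ∈ d.D y, n = a * g := by
  classical
  let P : d.A × d.D y → d.N := fun z => ⟨z.1 * z.2, mul_mem (d.le z.1.2) z.2.2.1⟩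
  have hP : Function.Injective P := by
    rintro ⟨a, g⟩ ⟨a', g'⟩ h
    have e : (a : G) * g = a' * g' := congrArg Subtype.val h
    have e' : (a' : G)⁻¹ * a = g' * (g : G)⁻¹ := by
      calc (a' : G)⁻¹ * a = (a' : G)⁻¹ * (a * g) * (g : G)⁻¹ := by group
        _ = _ := by rw [e]; group
    have h1 := d.D_inf_A hy (mul_mem (inv_mem a'.2) a.2) (e' ▸ mul_mem g'.2 (inv_mem g.2))
    have ha : a = a' := Subtype.ext (inv_mul_eq_one.1 h1).symm
    subst ha
    exact Prod.ext rfl (Subtype.ext (mul_left_cancel e))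
  let r : d.T → G := fun s => if h : ∃ n ∈ d.N, n * d.t * n⁻¹ = s.1 then h.choose else 1
  let Q : d.N → d.A × d.T := fun n =>
    let s : d.T := ⟨(n : G) * d.t * (n : G)⁻¹,
      by rw [← MulAut.conj_apply, MulEquiv.orderOf_eq]; exact d.ht,
      mul_mem (mul_mem n.2 (d.le d.htA)) (inv_mem n.2)⟩
    (⟨(r s)⁻¹ * n, by
      have h : ∃ m ∈ d.N, m * d.t * m⁻¹ = s.1 := ⟨n, n.2, rfl⟩
      have hr : r s * d.t * (r s)⁻¹ = s.1 := by
        simp only [r, dif_pos h]; exact h.choose_spec.2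
      have ht1 : d.t ≠ 1 := fun e => by
        have := d.ht; rw [e, orderOf_one] at this; norm_num at this
      refine d.ti _ d.htA ht1 _ (mul_inv_eq_iff_eq_mul.1 ?_)
      calc (r s)⁻¹ * n * d.t * ((r s)⁻¹ * n)⁻¹ = (r s)⁻¹ * ((n : G) * d.t * (n : G)⁻¹) * r s := by group
        _ = (r s)⁻¹ * (r s * d.t * (r s)⁻¹) * r s := by rw [hr]
        _ = d.t := by group⟩, s)
  have hQ : Function.Injective Q := fun n n' h => by
    simp only [Q, Prod.mk.injEq, Subtype.mk.injEq] at h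
    obtain ⟨h1, h2⟩ := h
    apply Subtype.ext
    simp only [h2] at h1
    exact mul_left_cancel h1
  have hcard : Nat.card (d.A × d.D y) = Nat.card d.N :=
    le_antisymm (Nat.card_le_card_of_injective P hP)
      ((Nat.card_le_card_of_injective Q hQ).trans
        (le_of_eq (by rw [Nat.card_prod, Nat.card_prod, d.card_D hy])))
  obtain ⟨⟨a, g⟩, hag⟩ := ((Nat.bijective_iff_injective_and_card P).2 ⟨hP, hcard⟩).2 ⟨n, hn⟩
  exact ⟨a, a.2, g, g.2, (congrArg Subtype.val hag).symm⟩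

theorem inverts_pair {p r : G ⧸ d.N} (hpr : p ≠ r) {g i : G} (hgp : g • p = p) (hgr : g • r = r)
    (hi : orderOf i = 2) (hip : i • p = r) : i * g * i⁻¹ = g⁻¹ := by
  obtain ⟨c, hc⟩ := exists_smul_eq G p d.base
  have hne : c • r ≠ d.base := fun e => hpr (MulAction.injective c (hc.trans e.symm))
  have hcp : c⁻¹ • d.base = p := inv_smul_eq_iff.2 hc.symm
  have h := d.inverts hne (g := c * g * c⁻¹) (u := c * i * c⁻¹)
    ⟨(d.smul_base_iff _).1 (by rw [mul_smul, mul_smul, hcp, hgp, hc]),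
      show (c * g * c⁻¹) • c • r = c • r by rw [mul_smul, mul_smul, inv_smul_smul, hgr]⟩
    (by rw [← MulAut.conj_apply, MulEquiv.orderOf_eq]; exact hi)
    (by rw [mul_smul, mul_smul, hcp, hip])
  calc i * g * i⁻¹ = c⁻¹ * (c * i * c⁻¹ * (c * g * c⁻¹) * (c * i * c⁻¹)⁻¹) * c := by group
    _ = c⁻¹ * (c * g * c⁻¹)⁻¹ * c := by rw [h]
    _ = g⁻¹ := by group

theorem fix_three {g : G} {y z : G ⧸ d.N} (hy : y ≠ d.base) (hz : z ≠ d.base) (hyz : y ≠ z)
    (h0 : g • d.base = d.base) (h1 : g • y = y) (h2 : g • z = z) : g = 1 := by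
  obtain ⟨u, hu, hux, huy, -⟩ := d.exists_swap (Ne.symm hy)
  obtain ⟨v, hv, hvx, hvz, -⟩ := d.exists_swap (Ne.symm hz)
  obtain ⟨w, hw, hwy, hwz, -⟩ := d.exists_swap hyz
  have hn : (u * v * w) • y = y := by rw [mul_smul, mul_smul, hwy, hvz, hux]
  have hinv : u * v * w * g * (u * v * w)⁻¹ = g⁻¹ := by
    have eu := d.inverts_pair (Ne.symm hy) h0 h1 hu hux
    have ev := d.inverts_pair (Ne.symm hz) h0 h2 hv hvx
    have ew := d.inverts_pair hyz h1 h2 hw hwy
    calc u * v * w * g * (u * v * w)⁻¹ = u * (v * (w * g * w⁻¹) * v⁻¹) * u⁻¹ := by group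
      _ = u * (v * g⁻¹ * v⁻¹) * u⁻¹ := by rw [ew]
      _ = u * (v * g * v⁻¹)⁻¹ * u⁻¹ := by group
      _ = g⁻¹ := by rw [ev, inv_inv, eu]
  -- move `y` to the base point
  obtain ⟨c, hc⟩ := exists_smul_eq G y d.base
  set g' := c * g * c⁻¹ with hg'
  set n' := c * (u * v * w) * c⁻¹ with hn'
  have hcy : c⁻¹ • d.base = y := inv_smul_eq_iff.2 hc.symm
  have hy' : c • d.base ≠ d.base := fun e => hy (MulAction.injective c (hc.trans e.symm))
  have hgD : g' ∈ d.D (c • d.base) :=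
    ⟨(d.smul_base_iff _).1 (by rw [hg', mul_smul, mul_smul, hcy, h1, hc]),
      show g' • c • d.base = c • d.base by rw [hg', mul_smul, mul_smul, inv_smul_smul, h0]⟩
  have hnN : n' ∈ d.N := (d.smul_base_iff _).1 (by rw [hn', mul_smul, mul_smul, hcy, hn, hc])
  obtain ⟨a, ha, δ, hδ, hnad⟩ := d.decomp hy' hnN
  have hinv' : n' * g' * n'⁻¹ = g'⁻¹ := by
    rw [hn', hg']
    calc c * (u * v * w) * c⁻¹ * (c * g * c⁻¹) * (c * (u * v * w) * c⁻¹)⁻¹
        = c * (u * v * w * g * (u * v * w)⁻¹) * c⁻¹ := by group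
      _ = c * g⁻¹ * c⁻¹ := by rw [hinv]
      _ = _ := by group
  have e : a * g' * a⁻¹ = g'⁻¹ := by
    rw [← hinv', hnad]
    have := d.comm_D hy' hδ hgD
    calc a * g' * a⁻¹ = a * (g' * δ * δ⁻¹) * a⁻¹ := by group
      _ = a * (δ * g' * δ⁻¹) * a⁻¹ := by rw [this]
      _ = _ := by group
  have hsqA : g'⁻¹ * (a * g' * a⁻¹) ∈ d.A := by
    rw [show g'⁻¹ * (a * g' * a⁻¹) = g'⁻¹ * a * g' * a⁻¹ by group]
    refine mul_mem ?_ (inv_mem ha)
    simpa using d.norm g'⁻¹ (inv_mem hgD.1) a ha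
  rw [e] at hsqA
  have hsq1 : g' * g' = 1 := inv_eq_one.1 (by
    rw [_root_.mul_inv_rev]; exact d.D_inf_A hy' hsqA (mul_mem (inv_mem hgD) (inv_mem hgD)))
  have hg1 : g' = 1 := by
    by_contra hne
    have ho : orderOf g' = 2 := orderOf_eq_prime (by rw [pow_two, hsq1]) hne
    exact hne (d.D_inf_A hy' (d.invol_mem g' ho hgD.1) hgD)
  rw [hg', conj_eq_one_iff] at hg1
  exact hg1

theorem exists_D_ne_one {y : G ⧸ d.N} (hy : y ≠ d.base) : ∃ g ∈ d.D y, g ≠ 1 := by
  haveI : Nontrivial (d.D y) := Finite.one_lt_card_iff_nontrivial.1 (by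
    have := d.two_le_T
    rw [d.card_D hy]; omega)
  obtain ⟨g, hg⟩ := exists_ne (1 : d.D y)
  exact ⟨g, g.2, fun h => hg (Subtype.ext h)⟩

theorem A_trans {y z : G ⧸ d.N} (hy : y ≠ d.base) (hz : z ≠ d.base) :
    ∃ a ∈ d.A, a • z = y := by
  obtain ⟨g, hg, hg1⟩ := d.exists_D_ne_one hy
  obtain ⟨c, hc, δ, hδ, hgc⟩ := d.decomp hz hg.1
  let f : d.A → d.A := fun a => ⟨(a : G)⁻¹ * (g * a * g⁻¹), mul_mem (inv_mem a.2) (d.norm g hg.1 a a.2)⟩
  have hf : Function.Injective f := fun a b h => by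
    have e : (a : G)⁻¹ * (g * a * g⁻¹) = (b : G)⁻¹ * (g * b * g⁻¹) := congrArg Subtype.val h
    by_contra hab
    have h1 : (b : G) * (a : G)⁻¹ ≠ 1 := fun h1 => hab (Subtype.ext (mul_inv_eq_one.1 h1).symm)
    refine hg1 (d.D_inf_A hy (d.ti _ (mul_mem b.2 (inv_mem a.2)) h1 g ?_) hg)
    show g * ((b : G) * (a : G)⁻¹) = (b : G) * (a : G)⁻¹ * g
    calc g * ((b : G) * (a : G)⁻¹) = (b : G) * ((b : G)⁻¹ * (g * b * g⁻¹)) * g * (a : G)⁻¹ := by group
      _ = (b : G) * ((a : G)⁻¹ * (g * a * g⁻¹)) * g * (a : G)⁻¹ := by rw [e]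
      _ = _ := by group
  obtain ⟨a, ha⟩ := (Finite.injective_iff_surjective.1 hf) ⟨c⁻¹, inv_mem hc⟩
  have ha' : (a : G)⁻¹ * (g * a * g⁻¹) = c⁻¹ := congrArg Subtype.val ha
  have hgz : g • z = c • z := by rw [hgc, mul_smul]; exact congrArg (c • ·) hδ.2
  have hfix : g • (a : G) • z = (a : G) • z := by
    calc g • (a : G) • z = ((g * a * g⁻¹) * c) • z := by
          rw [mul_smul (g * a * g⁻¹) c, ← hgz, ← mul_smul, ← mul_smul]; congr 1; group
      _ = ((a : G) * ((a : G)⁻¹ * (g * a * g⁻¹)) * c) • z := by congr 1; group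
      _ = (a : G) • z := by rw [ha']; congr 1; group
  refine ⟨a, a.2, ?_⟩
  by_contra hne
  refine hg1 (d.fix_three hy (fun e => hz (MulAction.injective (a : G) (e.trans
    ((d.smul_base_iff _).2 (d.le a.2)).symm))) (Ne.symm hne) ((d.smul_base_iff g).2 hg.1) hg.2 hfix)

theorem exists_ne_base : ∃ y : G ⧸ d.N, y ≠ d.base := by
  by_contra h
  push Not at h
  exact d.se.1 (eq_top_iff.2 fun g _ => (d.smul_base_iff g).1 (h _))

theorem two_trans : IsMultiplyPretransitive G (G ⧸ d.N) 2 := by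
  rw [is_two_pretransitive_iff]
  intro a b c e hab hce
  obtain ⟨g, hg⟩ := exists_smul_eq G a d.base
  obtain ⟨g', hg'⟩ := exists_smul_eq G c d.base
  obtain ⟨x, hxA, hx⟩ := d.A_trans (y := g' • e) (z := g • b)
    (fun h => hce (MulAction.injective g' (hg'.trans h.symm)))
    (fun h => hab (MulAction.injective g (hg.trans h.symm)))
  refine ⟨g'⁻¹ * x * g, ?_, ?_⟩
  · rw [mul_smul, mul_smul, hg, (d.smul_base_iff x).2 (d.le hxA), inv_smul_eq_iff, hg']
  · rw [mul_smul, mul_smul, hx, inv_smul_smul]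

theorem faithful : FaithfulSMul G (G ⧸ d.N) := by
  refine ⟨fun {g h} e => ?_⟩
  obtain ⟨y, hy⟩ := d.exists_ne_base
  have ht1 : d.t ≠ 1 := fun h => by have := d.ht; rw [h, orderOf_one] at this; norm_num at this
  have hfix : ∀ p : G ⧸ d.N, (g⁻¹ * h) • p = p := fun p => by rw [mul_smul, ← e p, inv_smul_smul]
  exact inv_mul_eq_one.1 (d.fix_three hy
    (fun c => hy (MulAction.injective d.t (c.trans ((d.smul_base_iff _).2 (d.le d.htA)).symm)))
    (Ne.symm fun c => ht1 (d.semireg d.htA hy c)) (hfix _) (hfix _) (hfix _))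

theorem zassenhaus : Cfsg.IsZassenhausGroup G (G ⧸ d.N) := by
  haveI hfaith := d.faithful
  obtain ⟨y, hy⟩ := d.exists_ne_base
  obtain ⟨g, hg, hg1⟩ := d.exists_D_ne_one hy
  refine ⟨hfaith, d.two_trans, fun g a b c hab hbc hac ha hb hc => ?_,
    ⟨g, hg1, d.base, y, Ne.symm hy, (d.smul_base_iff g).2 hg.1, hg.2⟩, fun M hM htr => ?_⟩
  · obtain ⟨c', hc'⟩ := exists_smul_eq G a d.base
    have hca : c'⁻¹ • d.base = a := inv_smul_eq_iff.2 hc'.symm
    have h := d.fix_three (g := c' * g * c'⁻¹) (y := c' • b) (z := c' • c)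
      (fun e => hab (MulAction.injective c' (hc'.trans e.symm)))
      (fun e => hac (MulAction.injective c' (hc'.trans e.symm)))
      (fun e => hbc (MulAction.injective c' e))
      (by rw [mul_smul, mul_smul, hca, ha, hc']) (by rw [mul_smul, mul_smul, inv_smul_smul, hb])
      (by rw [mul_smul, mul_smul, inv_smul_smul, hc])
    exact conj_eq_one_iff.1 h
  · refine ⟨d.base, fun hbot => ?_⟩
    -- a regular normal subgroup would be inverted by two involutions
    have hreg : ∀ m ∈ M, ∀ m' ∈ M, m • d.base = m' • d.base → m = m' := by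
      intro m hm m' hm' e
      have h1 : (⟨m'⁻¹ * m, mul_mem (inv_mem hm') hm⟩ : M) ∈ stabilizer M d.base := by
        show (m'⁻¹ * m) • d.base = d.base
        rw [mul_smul, e, inv_smul_smul]
      have h1 := hbot.le h1
      rw [Subgroup.mem_bot] at h1
      exact (inv_mul_eq_one.1 (congrArg Subtype.val h1 : m'⁻¹ * m = 1)).symm
    have hinv : ∀ s : d.T, ∀ m ∈ M, s.1 * m * s.1⁻¹ = m⁻¹ := by
      rintro ⟨s, hs, hsN⟩
      have hsA := d.invol_mem s hs hsN
      have hs1 : s ≠ 1 := fun h => by rw [h, orderOf_one] at hs; norm_num at hs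
      have hss : s * s = 1 := by rw [← pow_two, ← hs, pow_orderOf_eq_one]
      let f : M → M := fun m => ⟨(m : G)⁻¹ * (s * m * s⁻¹), mul_mem (inv_mem m.2) (hM.conj_mem _ m.2 s)⟩
      have hf : Function.Injective f := fun a c h => by
        have h' : (a : G)⁻¹ * (s * a * s⁻¹) = (c : G)⁻¹ * (s * c * s⁻¹) := congrArg Subtype.val h
        have hc : s * ((c : G) * (a : G)⁻¹) * s⁻¹ = (c : G) * (a : G)⁻¹ := by
          calc s * ((c : G) * (a : G)⁻¹) * s⁻¹ = (s * c * s⁻¹) * (s * a * s⁻¹)⁻¹ := by group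
            _ = (c : G) * ((c : G)⁻¹ * (s * c * s⁻¹)) * (s * a * s⁻¹)⁻¹ := by group
            _ = (c : G) * ((a : G)⁻¹ * (s * a * s⁻¹)) * (s * a * s⁻¹)⁻¹ := by rw [h']
            _ = _ := by group
        have hfix : s • ((c : G) * (a : G)⁻¹) • d.base = ((c : G) * (a : G)⁻¹) • d.base := by
          conv_rhs => rw [← hc, mul_smul, mul_smul]
          rw [(d.smul_base_iff s⁻¹).2 (inv_mem hsN)]
        have hb : ((c : G) * (a : G)⁻¹) • d.base = d.base := by
          by_contra hne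
          exact hs1 (d.semireg hsA hne hfix)
        have := hreg _ (mul_mem c.2 (inv_mem a.2)) 1 (one_mem M) (by rw [hb, one_smul])
        exact Subtype.ext (mul_inv_eq_one.1 this).symm
      intro m hm
      obtain ⟨a, ha⟩ := Finite.injective_iff_surjective.1 hf ⟨m, hm⟩
      have ha' : (a : G)⁻¹ * (s * a * s⁻¹) = m := congrArg Subtype.val ha
      rw [← ha']
      calc s * ((a : G)⁻¹ * (s * a * s⁻¹)) * s⁻¹ = (s * a * s⁻¹)⁻¹ * (s * s * a * (s * s)⁻¹) := by group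
        _ = _ := by rw [hss]; group
    haveI : Nontrivial d.T := Finite.one_lt_card_iff_nontrivial.1 d.two_le_T
    obtain ⟨s₁, s₂, hne⟩ := exists_pair_ne d.T
    refine hne (Subtype.ext (d.faithful.eq_of_smul_eq_smul fun p => ?_))
    obtain ⟨m, hm⟩ := htr.exists_smul_eq d.base p
    rw [← hm, Subgroup.smul_def]
    have e1 : s₁.1 * (m : G) = (m : G)⁻¹ * s₁.1 := mul_inv_eq_iff_eq_mul.1 (hinv s₁ m m.2)
    have e2 : s₂.1 * (m : G) = (m : G)⁻¹ * s₂.1 := mul_inv_eq_iff_eq_mul.1 (hinv s₂ m m.2)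
    rw [← mul_smul, ← mul_smul, e1, e2, mul_smul, mul_smul, (d.smul_base_iff _).2 s₁.2.2,
      (d.smul_base_iff _).2 s₂.2.2]

theorem regular (y z : G ⧸ d.N) (hy : y ≠ d.base) (hz : z ≠ d.base) :
    ∃! u : d.A, (u : G) • y = z := by
  obtain ⟨a, ha, haz⟩ := d.A_trans hz hy
  refine ⟨⟨a, ha⟩, haz, fun u hu => ?_⟩
  apply Subtype.ext
  show (u : G) = a
  refine (inv_mul_eq_one.1 (d.semireg (mul_mem (inv_mem ha) u.2) hy ?_)).symm
  rw [mul_smul, hu, ← haz, inv_smul_smul]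

theorem card_points : Nat.card (G ⧸ d.N) = Nat.card d.A + 1 := by
  classical
  obtain ⟨y, hy⟩ := d.exists_ne_base
  haveI := Fintype.ofFinite (G ⧸ d.N)
  have hb : Function.Bijective (fun a : d.A =>
      (⟨(a : G) • y, fun e => hy (MulAction.injective (a : G) (e.trans ((d.smul_base_iff _).2 (d.le a.2)).symm))⟩ :
        {z : G ⧸ d.N // z ≠ d.base})) := by
    refine ⟨fun a b h => ?_, fun z => ?_⟩
    · exact (d.regular y _ hy (fun e => hy (MulAction.injective (a : G)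
        (e.trans ((d.smul_base_iff _).2 (d.le a.2)).symm)))).unique rfl (congrArg Subtype.val h).symm
    · obtain ⟨u, hu, -⟩ := d.regular y z hy z.2
      exact ⟨u, Subtype.ext hu⟩
  rw [Nat.card_eq_of_bijective _ hb, Nat.card_eq_fintype_card, Nat.card_eq_fintype_card,
    Fintype.card_subtype_compl, Fintype.card_subtype_eq]
  have : 0 < Fintype.card (G ⧸ d.N) := Fintype.card_pos
  omega

theorem two_group (h3 : IsMultiplyPretransitive G (G ⧸ d.N) 3) :
    ∀ a ∈ d.A, a ≠ 1 → orderOf a = 2 := by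
  intro a ha ha1
  obtain ⟨y, hy⟩ := d.exists_ne_base
  have key : ∀ b ∈ d.A, b ≠ 1 → b • y ≠ d.base ∧ b • y ≠ y := fun b hb hb1 =>
    ⟨fun e => hy (MulAction.injective b (e.trans ((d.smul_base_iff _).2 (d.le hb)).symm)),
      fun e => hb1 (d.semireg hb hy e)⟩
  have ht1 : d.t ≠ 1 := fun h => by have := d.ht; rw [h, orderOf_one] at this; norm_num at this
  have hinj : ∀ b ∈ d.A, b ≠ 1 → Function.Injective ![d.base, y, b • y] := by
    intro b hb hb1 i j hij
    have h := key b hb hb1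
    fin_cases i <;> fin_cases j <;>
      first
        | rfl
        | exact absurd hij (Ne.symm hy)
        | exact absurd hij hy
        | exact absurd hij (Ne.symm h.1)
        | exact absurd hij h.1
        | exact absurd hij (Ne.symm h.2)
        | exact absurd hij h.2
  obtain ⟨g, hg⟩ := @exists_smul_eq G (Fin 3 ↪ G ⧸ d.N) _ h3 ⟨_, hinj d.t d.htA ht1⟩ ⟨_, hinj a ha ha1⟩
  have e0 : g • d.base = d.base := DFunLike.congr_fun hg 0
  have e1 : g • y = y := DFunLike.congr_fun hg 1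
  have e2 : g • d.t • y = a • y := DFunLike.congr_fun hg 2
  have hgy : g⁻¹ • y = y := inv_smul_eq_iff.2 e1.symm
  have heq : g * d.t * g⁻¹ = a := by
    refine (inv_mul_eq_one.1 (d.semireg (mul_mem (inv_mem ha) (d.norm g ((d.smul_base_iff g).1 e0) _ d.htA))
      hy ?_)).symm
    rw [mul_smul, mul_smul, mul_smul, hgy, e2, inv_smul_smul]
  rw [← heq, ← MulAut.conj_apply, MulEquiv.orderOf_eq]
  exact d.ht

end Dat

end Cfsg.Agent.Recog.TICent
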