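import Cfsg.Agent.Lib.Recog.TICentralizer.Main

/-!
# Non-solvable groups with TI centralisers are `PSL(2, 2^n)`
-/

set_option autoImplicit false
set_option linter.unusedSectionVars false

namespace Cfsg.Agent.Recog.TICent

open MulAction

variable {G : Type*} [Group G] [Finite G]

theorem Dat.simple (d : Dat G) : IsSimpleGroup G := by
  haveI := Fintype.ofFinite (G ⧸ d.N)
  refine S0338.result d.zassenhaus ?_
  rw [← Nat.card_eq_fintype_card, d.card_points]
  exact Even.add_one (even_iff_two_dvd.2 (d.ht ▸ Subgroup.orderOf_dvd_natCard d.A d.htA))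

theorem Dat.central (d : Dat G) (hA : d.A = Subgroup.centralizer ({d.t} : Set G)) {s : G}
    (hs : orderOf s = 2) (hsA : s ∈ d.A) {a : G} (ha : a ∈ d.A) : a * s = s * a := by
  obtain ⟨y, hy⟩ := d.exists_ne_base
  obtain ⟨u, hu, hux, -, -⟩ := d.exists_swap (Ne.symm hy)
  have huN : u ∉ d.N := fun h => hy (hux.symm.trans ((d.smul_base_iff u).2 h))
  obtain ⟨n, hn, hns⟩ := (S1225.result d.N d.se u hu huN d.t s d.ht (d.le d.htA) hs (d.le hsA)).1
  have h1 : n⁻¹ * a * n ∈ Subgroup.centralizer ({d.t} : Set G) := hA.le <| by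
    have := d.norm n⁻¹ (inv_mem hn.1) a ha
    rwa [inv_inv] at this
  rw [Subgroup.mem_centralizer_singleton_iff] at h1
  rw [← hns]
  calc a * (n * d.t * n⁻¹) = n * (n⁻¹ * a * n * d.t) * n⁻¹ := by group
    _ = n * (d.t * (n⁻¹ * a * n)) * n⁻¹ := by rw [h1]
    _ = _ := by group

/-- The involutions of a centraliser of an involution are central in it. -/
theorem Dat.commute_of_commute (d : Dat G) (hA : d.A = Subgroup.centralizer ({d.t} : Set G)) {z s r : G}
    (hz : orderOf z = 2) (hs : orderOf s = 2) (hzs : Commute s z) (hzr : Commute r z) : Commute r s := by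
  obtain ⟨y, hy⟩ := d.exists_ne_base
  obtain ⟨u, hu, hux, -, -⟩ := d.exists_swap (Ne.symm hy)
  have huN : u ∉ d.N := fun h => hy (hux.symm.trans ((d.smul_base_iff u).2 h))
  obtain ⟨c, hc⟩ := isConj_iff.1
    ((S1225.result d.N d.se u hu huN d.t d.t d.ht (d.le d.htA) d.ht (d.le d.htA)).2 z d.t hz d.ht)
  have hmem : ∀ w, Commute w z → c * w * c⁻¹ ∈ d.A := fun w hw => by
    rw [hA, Subgroup.mem_centralizer_singleton_iff, ← hc]
    exact (hw.map (MulAut.conj c).toMonoidHom).eq
  have hs' : orderOf (c * s * c⁻¹) = 2 := by rw [← MulAut.conj_apply, MulEquiv.orderOf_eq, hs]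
  have e : Commute (MulAut.conj c r) (MulAut.conj c s) := d.central hA hs' (hmem s hzs) (hmem r hzr)
  have e' := e.map (MulAut.conj c).symm.toMonoidHom
  simpa [mul_assoc] using e'

theorem Dat.card_group (d : Dat G) :
    Nat.card G = (Nat.card d.A + 1) * (Nat.card d.A * Nat.card d.T) := by
  obtain ⟨y, hy⟩ := d.exists_ne_base
  have e : Nat.card d.N = Nat.card d.A * Nat.card d.T := by
    rw [← d.card_D hy, ← Nat.card_prod]
    refine (Nat.card_congr (Equiv.ofBijective
      (fun z : d.A × d.D y => (⟨z.1 * z.2, mul_mem (d.le z.1.2) z.2.2.1⟩ : d.N)) ⟨?_, ?_⟩)).symm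
    · rintro ⟨a, g⟩ ⟨a', g'⟩ h
      have e : (a : G) * g = a' * g' := congrArg Subtype.val h
      have e' : (a' : G)⁻¹ * a = g' * (g : G)⁻¹ := by
        calc (a' : G)⁻¹ * a = (a' : G)⁻¹ * (a * g) * (g : G)⁻¹ := by group
          _ = _ := by rw [e]; group
      have h1 := d.D_inf_A hy (mul_mem (inv_mem a'.2) a.2) (e' ▸ mul_mem g'.2 (inv_mem g.2))
      have ha : a = a' := Subtype.ext (inv_mul_eq_one.1 h1).symm
      subst ha
      exact Prod.ext rfl (Subtype.ext (mul_left_cancel e))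
    · intro n
      obtain ⟨a, ha, g, hg, he⟩ := d.decomp hy n.2
      exact ⟨(⟨a, ha⟩, ⟨g, hg⟩), Subtype.ext he.symm⟩
  rw [← e, ← d.card_points, Subgroup.card_eq_card_quotient_mul_card_subgroup d.N]

theorem Dat.suzuki_card (d : Dat G) (hS : Cfsg.IsSuzuki G) :
    ∃ q w : ℕ, q = w + 1 ∧ 8 ≤ q ∧ Nat.card d.A = q ^ 2 ∧ Nat.card d.T = w := by
  obtain ⟨-, m, hm, hcard⟩ := hS
  set q := 2 ^ (2 * m + 1) with hq
  have hq8 : 8 ≤ q := le_trans (by norm_num) (Nat.pow_le_pow_right (by norm_num) (show 3 ≤ 2 * m + 1 by omega))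
  have hA2 : 2 ∣ Nat.card d.A := d.ht ▸ Subgroup.orderOf_dvd_natCard d.A d.htA
  have hT2 : Odd (Nat.card d.T) := by
    obtain ⟨y, hy⟩ := d.exists_ne_base
    rw [← d.card_D hy]
    by_contra h2
    obtain ⟨v, hv⟩ := exists_prime_orderOf_dvd_card' 2 (even_iff_two_dvd.1 (Nat.not_odd_iff_even.1 h2))
    haveI : Fact (Nat.Prime 2) := ⟨Nat.prime_two⟩
    have hv' : orderOf (v : G) = 2 := by rw [Subgroup.orderOf_coe, hv]
    have := d.D_inf_A hy (d.invol_mem _ hv' v.2.1) v.2
    rw [this, orderOf_one] at hv'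
    norm_num at hv'
  have hG := d.card_group
  rw [hcard] at hG
  set a := Nat.card d.A
  set k := Nat.card d.T
  have hqa : q ^ 2 ∣ a := by
    have h1 : q ^ 2 ∣ a * ((a + 1) * k) := ⟨(q ^ 2 + 1) * (q - 1), by linear_combination -hG⟩
    refine Nat.Coprime.dvd_of_dvd_mul_right ?_ h1
    rw [hq, ← pow_mul]
    refine Nat.Coprime.pow_left _ (Nat.prime_two.coprime_iff_not_dvd.2 fun hd => ?_)
    rcases (Nat.prime_two.dvd_mul).1 hd with h2 | h2
    · exact absurd (Nat.dvd_add_right hA2 |>.1 h2) (by norm_num)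
    · exact Nat.not_even_iff_odd.2 hT2 (even_iff_two_dvd.2 h2)
  obtain ⟨o, ho⟩ := hqa
  have hk0 : 0 < k := hT2.pos
  have ho0 : 0 < o := Nat.pos_of_ne_zero fun e => by
    rw [ho, e, mul_zero] at hA2
    have : Nat.card d.A = 0 := by rw [show Nat.card d.A = q ^ 2 * o from ho, e, mul_zero]
    exact Nat.card_pos.ne' this
  have hq1 : (q ^ 2 + 1) * (q - 1) = (q ^ 2 * o + 1) * (o * k) := by
    have : q ^ 2 * ((q ^ 2 + 1) * (q - 1)) = q ^ 2 * ((q ^ 2 * o + 1) * (o * k)) := by
      rw [ho] at hG; linear_combination hG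
    exact Nat.eq_of_mul_eq_mul_left (by positivity) this
  obtain ⟨w, hw⟩ : ∃ w, q = w + 1 := ⟨q - 1, by omega⟩
  rw [show q - 1 = w by omega] at hq1
  have hM : o * k ≤ w := by
    by_contra hlt
    push Not at hlt
    have : (q ^ 2 + 1) * w < (q ^ 2 * o + 1) * (o * k) :=
      Nat.mul_lt_mul_of_le_of_lt (by nlinarith) hlt (by positivity)
    omega
  have hMw : o * k = w := by
    have h1 : ((q ^ 2 + 1) * w) % q ^ 2 = ((q ^ 2 * o + 1) * (o * k)) % q ^ 2 := by rw [hq1]
    rw [show (q ^ 2 + 1) * w = w + q ^ 2 * w by ring,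
      show (q ^ 2 * o + 1) * (o * k) = o * k + q ^ 2 * (o * (o * k)) by ring,
      Nat.add_mul_mod_self_left, Nat.add_mul_mod_self_left] at h1
    have hwq : w < q ^ 2 := by nlinarith
    rw [Nat.mod_eq_of_lt hwq, Nat.mod_eq_of_lt (lt_of_le_of_lt hM hwq)] at h1
    exact h1.symm
  have ho1 : o = 1 := by
    rw [hMw] at hq1
    have := Nat.eq_of_mul_eq_mul_right (show 0 < w by omega) hq1
    nlinarith
  rw [ho1, one_mul] at hMw
  exact ⟨q, w, hw, hq8, by show a = _; rw [ho, ho1, mul_one], hMw⟩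

/-- In a group of Suzuki order the kernel is abelian. -/
theorem Dat.comm_of_suzuki (h : AllTI G) (d : Dat G) (hA : d.A = Subgroup.centralizer ({d.t} : Set G))
    (hS : Cfsg.IsSuzuki G) : ∀ a ∈ d.A, ∀ b ∈ d.A, a * b = b * a := by
  classical
  obtain ⟨q, w, hw, hq8, hAc, hTc⟩ := d.suzuki_card hS
  -- the subgroup of central involutions
  intro x hx b hb
  by_cases hxo : orderOf x = 2
  · exact (d.central hA hxo hx hb).symm
  rcases eq_or_ne x 1 with rfl | hx1
  · simp
  let C : Subgroup G := Subgroup.centralizer ({x} : Set G)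
  have hCA : C ≤ d.A := fun c hc => d.ti x hx hx1 c (Subgroup.mem_centralizer_singleton_iff.1 hc)
  let W : Subgroup G := C ⊓ Subgroup.centralizer (C : Set G)
  have hWA : W ≤ d.A := inf_le_left.trans hCA
  have hinvW : ∀ s, orderOf s = 2 → s ∈ d.A → s ∈ W := fun s hs hsA =>
    ⟨Subgroup.mem_centralizer_singleton_iff.2 (d.central hA hs hsA hx).symm,
      Subgroup.mem_centralizer_iff.2 fun c hc => d.central hA hs hsA (hCA hc)⟩
  have hxW : x ∈ W := ⟨Subgroup.mem_centralizer_singleton_iff.2 rfl,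
    Subgroup.mem_centralizer_iff.2 fun c hc => Subgroup.mem_centralizer_singleton_iff.1 hc⟩
  have hnC : ∀ n ∈ d.N, n ∈ Subgroup.normalizer (C : Set G) := fun n hn => by
    refine normalizes h (y := d.t) ?_ (fun e => by have := d.ht; rw [e, orderOf_one] at this; norm_num at this) ?_
    · exact (d.central hA d.ht d.htA hx).symm
    · refine (d.central hA ?_ (d.norm n hn _ d.htA) hx).symm
      rw [← MulAut.conj_apply, MulEquiv.orderOf_eq, d.ht]
  have hnW : ∀ n ∈ d.N, ∀ w ∈ W, n * w * n⁻¹ ∈ W := by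
    intro n hn w hw
    refine ⟨(Subgroup.mem_normalizer_iff.1 (hnC n hn) w).1 hw.1, Subgroup.mem_centralizer_iff.2 fun c hc => ?_⟩
    have hc' : n⁻¹ * c * n ∈ C := by
      have := (Subgroup.mem_normalizer_iff.1 (hnC n⁻¹ (inv_mem hn)) c).1 hc
      rwa [inv_inv] at this
    have e : n⁻¹ * c * n * w = w * (n⁻¹ * c * n) := Subgroup.mem_centralizer_iff.1 hw.2 _ hc'
    calc c * (n * w * n⁻¹) = n * (n⁻¹ * c * n * w) * n⁻¹ := by group
      _ = n * (w * (n⁻¹ * c * n)) * n⁻¹ := by rw [e]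
      _ = _ := by group
  -- the involutions with the identity
  let Ω : Subgroup G :=
    { carrier := {s | s ∈ d.A ∧ s * s = 1}
      one_mem' := ⟨one_mem _, one_mul 1⟩
      mul_mem' := fun {a c} ha hc => ⟨mul_mem ha.1 hc.1, by
        have e : c * a = a * c := by
          rcases eq_or_ne a 1 with rfl | ha1
          · simp
          exact d.central hA (orderOf_eq_prime (by rw [pow_two, ha.2]) ha1) ha.1 hc.1
        calc a * c * (a * c) = a * (c * a) * c := by group
          _ = a * a * (c * c) := by rw [e]; group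
          _ = 1 := by rw [ha.2, hc.2, one_mul]⟩
      inv_mem' := fun {a} ha => ⟨inv_mem ha.1, by rw [← mul_inv_rev, ha.2, inv_one]⟩ }
  have hxΩ : x ∉ Ω := fun hxΩ => hxo (orderOf_eq_prime (by rw [pow_two]; exact hxΩ.2) hx1)
  have hΩW : Ω ≤ W := fun s hs => by
    rcases eq_or_ne s 1 with rfl | hs1
    · exact one_mem W
    exact hinvW s (orderOf_eq_prime (by rw [pow_two, hs.2]) hs1) hs.1
  have hΩn : ∀ n ∈ d.N, ∀ s ∈ Ω, n * s * n⁻¹ ∈ Ω := fun n hn s hs => ⟨d.norm n hn s hs.1, by
    rw [show n * s * n⁻¹ * (n * s * n⁻¹) = n * (s * s) * n⁻¹ by group, hs.2]; group⟩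
  obtain ⟨y, hy⟩ := d.exists_ne_base
  have hfix : ∀ g ∈ d.D y, ∀ s ∈ Ω, g * x * g⁻¹ = x * s → g = 1 := by
    intro g hg s hs hgx
    by_contra hg1
    let f : Ω → Ω := fun r => ⟨(r : G) * (g * r * g⁻¹)⁻¹, mul_mem r.2 (inv_mem (hΩn g hg.1 r r.2))⟩
    have hf : Function.Injective f := fun a c hac => by
      have e : (a : G) * (g * a * g⁻¹)⁻¹ = (c : G) * (g * c * g⁻¹)⁻¹ := congrArg Subtype.val hac
      by_contra hne
      have h1 : (c : G)⁻¹ * a ≠ 1 := fun h1 => hne (Subtype.ext (inv_mul_eq_one.1 h1).symm)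
      refine hg1 (d.D_inf_A hy (d.ti _ (mul_mem (inv_mem c.2.1) a.2.1) h1 g ?_) hg)
      show g * ((c : G)⁻¹ * a) = (c : G)⁻¹ * a * g
      calc g * ((c : G)⁻¹ * a) = (c : G)⁻¹ * ((c : G) * (g * c * g⁻¹)⁻¹) * (g * a * g⁻¹) * g := by group
        _ = (c : G)⁻¹ * ((a : G) * (g * a * g⁻¹)⁻¹) * (g * a * g⁻¹) * g := by rw [e]
        _ = _ := by group
    obtain ⟨r, hr⟩ := Finite.injective_iff_surjective.1 hf ⟨s, hs⟩
    have hr' : (r : G) * (g * r * g⁻¹)⁻¹ = s := congrArg Subtype.val hr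
    have hgxr : g * (x * r) * g⁻¹ = x * r := by
      calc g * (x * r) * g⁻¹ = g * x * g⁻¹ * (g * r * g⁻¹) := by group
        _ = x * r := by rw [hgx, ← hr']; group
    have hne : x * (r : G) ≠ 1 := fun e => hxΩ (by
      rw [eq_inv_of_mul_eq_one_left e]; exact inv_mem r.2)
    exact hg1 (d.D_inf_A hy (d.ti _ (mul_mem hx r.2.1) hne g (mul_inv_eq_iff_eq_mul.1 hgxr)) hg)
  have hcardΩ : Nat.card Ω = Nat.card d.T + 1 := by
    haveI := Fintype.ofFinite Ω
    let e : {s : Ω // s ≠ 1} ≃ d.T :=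
      { toFun := fun s => ⟨s.1, orderOf_eq_prime (by rw [pow_two]; exact s.1.2.2)
          (fun e => s.2 (Subtype.ext e)), d.le s.1.2.1⟩
        invFun := fun s => ⟨⟨s.1, d.invol_mem _ s.2.1 s.2.2, by
          rw [← pow_two]; exact orderOf_dvd_iff_pow_eq_one.1 s.2.1.dvd⟩,
          fun e => by
            have := s.2.1
            rw [show s.1 = 1 from congrArg Subtype.val e, orderOf_one] at this
            norm_num at this⟩
        left_inv := fun s => rfl
        right_inv := fun s => rfl }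
    have := Nat.card_congr e
    rw [Nat.card_eq_fintype_card, Fintype.card_subtype_compl, Fintype.card_subtype_eq] at this
    rw [Nat.card_eq_fintype_card]
    have h0 : 0 < Fintype.card Ω := Fintype.card_pos
    omega
  let F : (d.D y × Ω) ⊕ Ω → W := fun z => Sum.elim
    (fun gs : d.D y × Ω => ⟨(gs.1 : G) * x * (gs.1 : G)⁻¹ * gs.2, mul_mem (hnW _ gs.1.2.1 x hxW) (hΩW gs.2.2)⟩)
    (fun s : Ω => ⟨(s : G), hΩW s.2⟩) z
  have hF : Function.Injective F := by
    have hout : ∀ (g : d.D y) (s s' : Ω), (g : G) * x * (g : G)⁻¹ * s ≠ s' := fun g s s' e => by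
      refine hxΩ ?_
      have h1 : (g : G) * x * (g : G)⁻¹ ∈ Ω := by
        rw [eq_mul_inv_of_mul_eq e]; exact mul_mem s'.2 (inv_mem s.2)
      have h2 := hΩn (g : G)⁻¹ (inv_mem g.2.1) _ h1
      rwa [show (g : G)⁻¹ * ((g : G) * x * (g : G)⁻¹) * (g : G)⁻¹⁻¹ = x by group] at h2
    rintro (⟨g, s⟩ | s) (⟨g', s'⟩ | s') e
    · have e' : (g : G) * x * (g : G)⁻¹ * s = (g' : G) * x * (g' : G)⁻¹ * s' := congrArg Subtype.val e
      have hgg : g = g' := by
        have := hfix ((g' : G)⁻¹ * g) (mul_mem (inv_mem g'.2) g.2)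
          ((g' : G)⁻¹ * ((s' : G) * (s : G)⁻¹) * g') (by
            have := hΩn (g' : G)⁻¹ (inv_mem g'.2.1) _ (mul_mem s'.2 (inv_mem s.2))
            rwa [inv_inv] at this) (by
            calc (g' : G)⁻¹ * g * x * ((g' : G)⁻¹ * g)⁻¹
                = (g' : G)⁻¹ * ((g : G) * x * (g : G)⁻¹ * s * (s : G)⁻¹) * g' := by group
              _ = (g' : G)⁻¹ * ((g' : G) * x * (g' : G)⁻¹ * s' * (s : G)⁻¹) * g' := by rw [e']
              _ = _ := by group)
        exact Subtype.ext (inv_mul_eq_one.1 this).symm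
      subst hgg
      exact congrArg Sum.inl (Prod.ext rfl (Subtype.ext (mul_left_cancel e')))
    · exact absurd (congrArg Subtype.val e) (hout g s s')
    · exact absurd (congrArg Subtype.val e).symm (hout g' s' s)
    · exact congrArg Sum.inr (Subtype.ext (show (s : G) = s' from congrArg (fun v : W => (v : G)) e))
  have hle := Nat.card_le_card_of_injective F hF
  rw [Nat.card_sum, Nat.card_prod, d.card_D hy, hcardΩ, hTc] at hle
  have hWeq : W = d.A := by
    refine Subgroup.eq_of_le_of_card_ge hWA ?_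
    rw [hAc]
    refine le_trans ?_ hle
    rw [hw]
    nlinarith
  have hb' := hWeq.ge hb
  exact (Subgroup.mem_centralizer_iff.1 hb'.2 x hxW.1)

/-- `PSL(2, K)` with the property forces characteristic two or five elements. -/
theorem finish (h : AllTI G) (hns : ¬ Group.IsSolvable G) (d : Dat G)
    (hA : d.A = Subgroup.centralizer ({d.t} : Set G))
    {K : Type} [Field K] [Fintype K] (e : G ≃* Matrix.ProjectiveSpecialLinearGroup (Fin 2) K) :
    ∃ n : ℕ, 2 ≤ n ∧ Nonempty (G ≃* Matrix.ProjectiveSpecialLinearGroup (Fin 2) (GaloisField 2 n)) := by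
  classical
  haveI := d.simple
  haveI : Fact (Nat.Prime 2) := ⟨Nat.prime_two⟩
  have hc := Nat.card_congr e.toEquiv
  have hps := SL2.card_psl (F := K)
  have h1 : 1 < Fintype.card K := Fintype.one_lt_card
  have hsol : ∀ a b : ℕ, Nat.card G = 2 ^ a * 3 ^ b → False := fun a b he =>
    hns (CT.isSolvable_of_card_two_primes Nat.prime_two Nat.prime_three _ G a b rfl he)
  by_cases h2 : ringChar K = 2
  · haveI : CharP K 2 := ringChar.of_eq h2
    obtain ⟨n, -, hn⟩ := FiniteField.card K 2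
    have hn2 : 2 ≤ (n : ℕ) := by
      by_contra hlt
      have hn1 : (n : ℕ) = 1 := by have := n.pos; omega
      rw [hn, hn1, show Nat.gcd 2 (2 ^ 1 - 1) = 1 from rfl, one_mul] at hps
      exact hsol 1 1 (by rw [hc]; omega)
    haveI := Fintype.ofFinite (GaloisField 2 n)
    have hF : Fintype.card (GaloisField 2 n) = Fintype.card K := by
      rw [hn, ← Nat.card_eq_fintype_card, GaloisField.card 2 n (by omega)]
    obtain ⟨e2⟩ := RecognizeEven.psl_congr (FiniteField.ringEquivOfCardEq hF.symm)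
    exact ⟨n, hn2, ⟨e.trans e2⟩⟩
  have hodd : Fintype.card K % 2 = 1 := FiniteField.odd_card_of_char_ne_two h2
  rw [Nat.gcd_eq_left (show 2 ∣ Fintype.card K - 1 by omega)] at hps
  by_cases h7 : 7 ≤ Fintype.card K
  · exfalso
    obtain ⟨r, ht, he, h4⟩ : ∃ r : Matrix.SpecialLinearGroup (Fin 2) K, SL2.tr r ^ 2 ≠ 4 ∧
        Even (Nat.card (SL2.torus r)) ∧ 4 ≤ Nat.card (SL2.torus r) := by
      have hgcd : Nat.gcd 2 (Fintype.card K - 1) = 2 := Nat.gcd_eq_left (by omega)
      rcases Nat.even_or_odd ((Fintype.card K + 1) / 2) with he | ho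
      · obtain ⟨r, hr⟩ := SL2.exists_noEig (F := K)
        refine ⟨r, hr.tr_sq, ?_⟩
        rcases SL2.card_torus_cases hr.tr_sq with ⟨-, hc⟩ | ⟨⟨a, ha⟩, -⟩
        · rw [hgcd] at hc
          rw [hc]
          exact ⟨he, by omega⟩
        · exact absurd ha ((SL2.noEig_iff r).1 hr a)
      · obtain ⟨a, ha⟩ := IsCyclic.exists_ofOrder_eq_natCard (α := Kˣ)
        rw [Nat.card_units, Nat.card_eq_fintype_card] at ha
        have ha2 : (a : K) ^ 2 ≠ 1 := fun e => by
          have hd : orderOf a ∣ 2 := orderOf_dvd_of_pow_eq_one (Units.ext (by simpa using e))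
          have := Nat.le_of_dvd two_pos hd
          omega
        refine ⟨SL2.dd a, SL2.tr_sq_dd ha2, ?_⟩
        rcases SL2.card_torus_cases (SL2.tr_sq_dd ha2) with ⟨hne, -⟩ | ⟨-, hc⟩
        · exfalso
          refine hne (a : K) ?_
          rw [SL2.tr_dd, add_sub_cancel_left, mul_inv_cancel₀ a.ne_zero]
        · rw [hgcd] at hc
          rw [hc]
          obtain ⟨j, hj⟩ := ho
          exact ⟨⟨j / 1, by omega⟩, by omega⟩
    obtain ⟨e1⟩ := SL2.NT_equiv_dihedral ht
    generalize Nat.card (SL2.torus r) = n at he h4 e1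
    obtain ⟨m, rfl⟩ := he
    haveI : NeZero (m + m) := ⟨by omega⟩
    let f : DihedralGroup (m + m) →* G :=
      e.symm.toMonoidHom.comp ((Subgroup.subtype _).comp e1.symm.toMonoidHom)
    have hf : Function.Injective f := e.symm.injective.comp (Subtype.val_injective.comp e1.symm.injective)
    have hm : ((m : ℕ) : ZMod (m + m)) ≠ 0 := by
      rw [Ne, ZMod.natCast_eq_zero_iff]
      intro hd
      have := Nat.le_of_dvd (by omega) hd
      omega
    have h20 : (2 : ZMod (m + m)) ≠ 0 := by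
      rw [← Nat.cast_two, Ne, ZMod.natCast_eq_zero_iff]
      intro hd
      have := Nat.le_of_dvd (by omega) hd
      omega
    have hmm : ((m : ℕ) : ZMod (m + m)) + (m : ℕ) = 0 := by rw [← Nat.cast_add, ZMod.natCast_self]
    have hz : orderOf (f (DihedralGroup.r ((m : ℕ) : ZMod (m + m)))) = 2 := by
      rw [orderOf_injective f hf]
      refine orderOf_eq_prime ?_ fun e => hm (DihedralGroup.r.inj (e.trans DihedralGroup.r_zero.symm))
      rw [pow_two, DihedralGroup.r_mul_r, hmm, DihedralGroup.r_zero]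
    have hs : orderOf (f (DihedralGroup.sr (0 : ZMod (m + m)))) = 2 := by
      rw [orderOf_injective f hf, DihedralGroup.orderOf_sr]
    have key := d.commute_of_commute hA hz hs (r := f (DihedralGroup.r 1))
      ((show Commute (DihedralGroup.sr (0 : ZMod (m + m))) (DihedralGroup.r ((m : ℕ) : ZMod (m + m))) by
        show _ = _
        rw [DihedralGroup.r_mul_sr, DihedralGroup.sr_mul_r]
        exact congrArg DihedralGroup.sr (by linear_combination hmm)).map f)
      ((show Commute (DihedralGroup.r (1 : ZMod (m + m))) (DihedralGroup.r ((m : ℕ) : ZMod (m + m))) by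
        show _ = _
        rw [DihedralGroup.r_mul_r, DihedralGroup.r_mul_r]
        exact congrArg DihedralGroup.r (add_comm _ _)).map f)
    rw [Commute, SemiconjBy, ← map_mul, ← map_mul] at key
    have := hf key
    simp at this
    exact h20 (by linear_combination -this)
  rcases (show Fintype.card K = 3 ∨ Fintype.card K = 5 by omega) with hq | hq <;> rw [hq] at hps
  · exact absurd (show Nat.card G = 2 ^ 2 * 3 ^ 1 by rw [hc]; omega) (fun e => hsol 2 1 e)
  · have h60 : Nat.card G = 60 := by rw [hc]; omega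
    haveI := Fintype.ofFinite (GaloisField 2 2)
    have hF : Fintype.card (GaloisField 2 2) = 2 ^ 2 := by
      rw [← Nat.card_eq_fintype_card]; exact GaloisField.card 2 2 (by norm_num)
    haveI : IsSimpleGroup (Matrix.ProjectiveSpecialLinearGroup (Fin 2) (GaloisField 2 2)) :=
      Matrix.ProjectiveSpecialLinearGroup.rank_two_simple (by rw [Nat.card_eq_fintype_card, hF]; norm_num)
    have h60' : Nat.card (Matrix.ProjectiveSpecialLinearGroup (Fin 2) (GaloisField 2 2)) = 60 := by
      have := SL2.card_psl (F := GaloisField 2 2)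
      rw [hF, show Nat.gcd 2 (2 ^ 2 - 1) = 1 from rfl, one_mul] at this
      omega
    obtain ⟨e1⟩ := SmallSimple.mulEquiv_alternating_five h60
    obtain ⟨e2⟩ := SmallSimple.mulEquiv_alternating_five h60'
    exact ⟨2, le_rfl, ⟨e1.trans e2.symm⟩⟩

theorem classify (h : AllTI G) (hns : ¬ Group.IsSolvable G) :
    ∃ n : ℕ, 2 ≤ n ∧ Nonempty (G ≃* Matrix.ProjectiveSpecialLinearGroup (Fin 2) (GaloisField 2 n)) := by
  classical
  obtain ⟨d, hA⟩ := exists_config h hns
  haveI := d.simple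
  haveI := d.faithful
  rcases S0340.result d.zassenhaus with ⟨K, iK, iF, ⟨e⟩⟩ | hS
  · exact finish h hns d hA e
  have hcomm := d.comm_of_suzuki h hA hS
  have hAs : d.A ≤ stabilizer G d.base := fun a ha => (d.smul_base_iff a).2 (d.le ha)
  have hFn : (d.A.subgroupOf (stabilizer G d.base)).Normal :=
    ⟨fun a ha g => d.norm _ ((d.smul_base_iff _).1 g.2) _ ha⟩
  have hab : IsMulCommutative d.A := ⟨⟨fun a b => Subtype.ext (hcomm a a.2 b b.2)⟩⟩
  rcases S0731.result d.zassenhaus d.base d.A hAs hFn hab d.regular with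
    ⟨h3, hsharp⟩ | ⟨K, iK, iF, -, ⟨e⟩⟩
  · exfalso
    haveI := Fintype.ofFinite (G ⧸ d.N)
    haveI := h3
    obtain ⟨u⟩ : Nonempty (Fin 3 ↪ G ⧸ d.N) := by
      refine Function.Embedding.nonempty_of_card_le ?_
      rw [Fintype.card_fin, ← Nat.card_eq_fintype_card, d.card_points]
      have := Nat.le_of_dvd Nat.card_pos (d.ht ▸ Subgroup.orderOf_dvd_natCard d.A d.htA)
      omega
    have hb : Function.Bijective fun g : G => g • u := by
      refine ⟨fun a b e => ?_, fun v => exists_smul_eq G u v⟩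
      have : b⁻¹ * a ∈ stabilizer G u := by
        rw [mem_stabilizer_iff, mul_smul]
        exact inv_smul_eq_iff.2 e
      rw [hsharp u, Subgroup.mem_bot] at this
      exact (inv_mul_eq_one.1 this).symm
    have hc := Nat.card_congr (Equiv.ofBijective _ hb)
    rw [Nat.card_eq_fintype_card (α := Fin 3 ↪ G ⧸ d.N), Fintype.card_embedding_eq, Fintype.card_fin,
      ← Nat.card_eq_fintype_card (α := G ⧸ d.N), d.card_points, d.card_group] at hc
    have hT : Nat.card d.T + 1 = Nat.card d.A := by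
      obtain ⟨j, hj⟩ : ∃ j, Nat.card d.A = j + 1 :=
        ⟨Nat.card d.A - 1, by have := Nat.card_pos (α := d.A); omega⟩
      rw [hj] at hc
      simp [Nat.descFactorial] at hc
      have : (j + 2) * (j + 1) * Nat.card d.T = (j + 2) * (j + 1) * j := by linear_combination hc
      have := Nat.eq_of_mul_eq_mul_left (by positivity) this
      omega
    obtain ⟨q, w, hw, hq8, hAc, hTc⟩ := d.suzuki_card hS
    nlinarith
  · exact finish h hns d hA e

end Cfsg.Agent.Recog.TICent
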