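import Cfsg.Agent.Lib.Recog.TICentralizer.Config
import Cfsg.Agent.Lib.SmallSimple.RecognizeEven
import Cfsg.Agent.Lib.Basics.Schmidt
import Cfsg.Agent.Lib.Basics.FrobeniusBasic
import Cfsg.Agent.Lib.OddLocal.CN
import Cfsg.Agent.S1476

/-!
# Groups in which all centralisers are TI-subgroups
-/

set_option autoImplicit false
set_option linter.unusedSectionVars false

namespace Cfsg.Agent.Recog.TICent

open Subgroup

section Basic

variable {G : Type*} [Group G]

/-- The hypothesis. -/
def AllTI (G : Type*) [Group G] : Prop :=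
  ∀ x : G, Cfsg.IsTISubset (centralizer ({x} : Set G) : Set G)

theorem normalizes (h : AllTI G) {x y g : G} (hy : Commute y x) (hy1 : y ≠ 1)
    (hg : Commute (g * y * g⁻¹) x) :
    g ∈ normalizer ((centralizer ({x} : Set G) : Subgroup G) : Set G) := by
  by_contra hn
  exact hy1 (h x g hn y (mem_centralizer_singleton_iff.2 hy.eq) (mem_centralizer_singleton_iff.2 hg.eq))

theorem normalizes_of_commute (h : AllTI G) {x y g : G} (hy : Commute y x) (hy1 : y ≠ 1) (hg : Commute g y) :
    g ∈ normalizer ((centralizer ({x} : Set G) : Subgroup G) : Set G) :=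
  normalizes h hy hy1 (by rwa [hg.eq, mul_inv_cancel_right])

theorem conj_commute {H : Subgroup G} {x g : G} (hx : x ∈ H)
    (hg : g ∈ normalizer ((centralizer ({x} : Set G) : Subgroup G) : Set G)) :
    Commute (g * x * g⁻¹) x :=
  mem_centralizer_singleton_iff.1 ((mem_normalizer_iff.1 hg x).1 (mem_centralizer_singleton_iff.2 rfl))

/-- A finite group in which every element commutes with its conjugates is nilpotent. -/
theorem nilpotent_of_conj_commute [Finite G] (h : ∀ g x : G, Commute (g * x * g⁻¹) x) :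
    Group.IsNilpotent G := by
  refine (Group.isNilpotent_of_finite_tfae.out 0 3).2 fun p hp P => ?_
  haveI := hp
  refine ⟨fun x hx g => ?_⟩
  let S : Set G := Set.range fun c : G => c * x * c⁻¹
  let N : Subgroup G := closure S
  have hgen : ∀ a ∈ S, ∀ b ∈ S, Commute a b := by
    rintro _ ⟨c, rfl⟩ _ ⟨d, rfl⟩
    have := (h (d⁻¹ * c) x).map (MulAut.conj d).toMonoidHom
    simp only [MulEquiv.coe_toMonoidHom, MulAut.conj_apply] at this
    rwa [show d * (d⁻¹ * c * x * (d⁻¹ * c)⁻¹) * d⁻¹ = c * x * c⁻¹ by group] at this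
  have hcomm : ∀ a ∈ N, ∀ b ∈ N, a * b = b * a := fun a ha b hb =>
    (congrArg Subtype.val ((closureCommGroupOfComm fun u hu v hv => (hgen u hu v hv).eq).mul_comm
      ⟨a, ha⟩ ⟨b, hb⟩) : _)
  have hNn : N.Normal := by
    refine ⟨fun a ha d => ?_⟩
    induction ha using closure_induction with
    | mem a ha =>
      obtain ⟨c, rfl⟩ := ha
      refine subset_closure ⟨d * c, ?_⟩
      group
    | one => simp
    | mul a b _ _ iha ihb =>
      have := mul_mem iha ihb
      rwa [show d * a * d⁻¹ * (d * b * d⁻¹) = d * (a * b) * d⁻¹ by group] at this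
    | inv a _ iha =>
      have := inv_mem iha
      rwa [show (d * a * d⁻¹)⁻¹ = d * a⁻¹ * d⁻¹ by group] at this
  have hNp : IsPGroup p N := by
    rintro ⟨a, ha⟩
    suffices e : ∃ k, a ^ p ^ k = 1 by
      obtain ⟨k, hk⟩ := e
      exact ⟨k, Subtype.ext (by simpa using hk)⟩
    induction ha using closure_induction with
    | mem a ha =>
      obtain ⟨c, rfl⟩ := ha
      obtain ⟨k, hk⟩ := P.2 ⟨x, hx⟩
      exact ⟨k, by rw [conj_pow, show x ^ p ^ k = 1 from congrArg Subtype.val hk, mul_one, mul_inv_cancel]⟩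
    | one => exact ⟨0, by simp⟩
    | mul a b ha hb iha ihb =>
      obtain ⟨i, hi⟩ := iha
      obtain ⟨j, hj⟩ := ihb
      refine ⟨i + j, ?_⟩
      rw [(show Commute a b from hcomm a ha b hb).mul_pow, pow_add, pow_mul a, hi, one_pow, one_mul,
        mul_comm (p ^ i), pow_mul b, hj, one_pow]
    | inv a _ iha =>
      obtain ⟨i, hi⟩ := iha
      exact ⟨i, by rw [inv_pow, hi, inv_one]⟩
  obtain ⟨Q, hQ⟩ := hNp.exists_le_sylow
  obtain ⟨c, hc⟩ := MulAction.exists_smul_eq G Q P
  have hmem : g * x * g⁻¹ ∈ N := subset_closure ⟨g, rfl⟩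
  have h2 : c⁻¹ * (g * x * g⁻¹) * c ∈ N := by
    have := hNn.conj_mem _ hmem c⁻¹
    rwa [inv_inv] at this
  rw [← hc, Sylow.coe_subgroup_smul, mem_pointwise_smul_iff_inv_smul_mem]
  simpa [MulAut.smul_def, MulAut.conj_apply, mul_assoc] using hQ h2

theorem nilpotent_of_center [Finite G] (h : AllTI G) {z : G} (hz : z ∈ center G) (hz1 : z ≠ 1) :
    Group.IsNilpotent G :=
  nilpotent_of_conj_commute fun g x => conj_commute (H := ⊤) (mem_top x)
    (normalizes_of_commute h (mem_center_iff.1 hz x).symm hz1 (mem_center_iff.1 hz g))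

theorem isCN [Finite G] (h : AllTI G) : Cfsg.IsCNGroup G := by
  intro x hx
  refine nilpotent_of_conj_commute fun g y => ?_
  have hg : Commute (g : G) x := mem_centralizer_singleton_iff.1 g.2
  have hy : Commute (y : G) x := mem_centralizer_singleton_iff.1 y.2
  have := conj_commute (H := ⊤) (mem_top (y : G)) (normalizes_of_commute h hy.symm hx hg)
  exact Subtype.ext this.eq

end Basic

/-- An element all whose prime power parts lie in a subgroup lies in it. -/
theorem mem_of_primePow_pow {G : Type*} [Group G] [Finite G] {K : Subgroup G} (g : G)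
    (h : ∀ x ∈ zpowers g, ∀ p k : ℕ, p.Prime → orderOf x = p ^ k → x ∈ K) : g ∈ K := by
  induction hn : orderOf g using Nat.strong_induction_on generalizing g with
  | _ n ih =>
    subst hn
    rcases eq_or_ne (orderOf g) 1 with h1 | h1
    · rw [orderOf_eq_one_iff.1 h1]; exact one_mem K
    obtain ⟨p, hp, hd⟩ := Nat.exists_prime_and_dvd h1
    obtain ⟨v, m, hm, hpm⟩ := Nat.exists_eq_pow_mul_and_not_dvd (orderOf_pos g).ne' p hp.ne_one
    rcases eq_or_ne m 1 with rfl | hm1
    · exact h g (mem_zpowers g) p v hp (by rw [hpm, mul_one])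
    have hv : v ≠ 0 := fun h0 => hm (by rw [hpm, h0, pow_zero, one_mul] at hd; exact hd)
    have h0 := orderOf_pos g
    have hmpos : 0 < m := Nat.pos_of_ne_zero fun e => by rw [hpm, e, mul_zero] at h0; omega
    have hppos : 0 < p ^ v := pow_pos hp.pos v
    have hsub : ∀ j : ℕ, j ∣ orderOf g → 1 < j → g ^ j ∈ K := fun j hj hj1 => by
      refine ih _ ?_ _ (fun x hx => h x (zpowers_le.2 (pow_mem (mem_zpowers g) j) hx)) rfl
      rw [orderOf_pow_of_dvd (by omega) hj]
      exact Nat.div_lt_self h0 hj1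
    have k1 := hsub (p ^ v) ⟨m, hpm⟩ (Nat.one_lt_pow hv hp.one_lt)
    have k2 := hsub m ⟨p ^ v, by rw [hpm, mul_comm]⟩ (by omega)
    have hcop : Nat.Coprime (p ^ v) m := (hp.coprime_iff_not_dvd.2 hm).pow_left v
    have e := Nat.gcd_eq_gcd_ab (p ^ v) m
    rw [hcop.gcd_eq_one] at e
    have : g = (g ^ (p ^ v)) ^ Nat.gcdA (p ^ v) m * (g ^ m) ^ Nat.gcdB (p ^ v) m := by
      rw [← zpow_natCast g (p ^ v), ← zpow_natCast g m, ← zpow_mul, ← zpow_mul, ← zpow_add, ← e,
        Nat.cast_one, zpow_one]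
    rw [this]
    exact mul_mem (zpow_mem k1 _) (zpow_mem k2 _)

section Nonsolvable

variable {G : Type*} [Group G] [Finite G]

theorem exists_config (h : AllTI G) (hns : ¬ Group.IsSolvable G) :
    ∃ d : Dat G, d.A = centralizer ({d.t} : Set G) := by
  classical
  haveI : Fact (Nat.Prime 2) := ⟨Nat.prime_two⟩
  have hCN := isCN h
  have heven : 2 ∣ Nat.card G := by
    by_contra h2
    exact hns (S0183.result (Nat.odd_iff.2 (Nat.two_dvd_ne_zero.1 h2)) hCN)
  obtain ⟨S⟩ : Nonempty (Sylow 2 G) := inferInstance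
  obtain ⟨t, htS, ht, hts⟩ : ∃ t ∈ (S : Subgroup G), orderOf t = 2 ∧ ∀ s ∈ (S : Subgroup G), Commute s t := by
    haveI : Nontrivial (S : Subgroup G) := by
      rw [nontrivial_iff_ne_bot]
      intro e
      have h2 := S.not_dvd_index
      rw [e, index_bot] at h2
      exact h2 heven
    haveI := S.2.center_nontrivial
    obtain ⟨n, hn⟩ := (S.2.to_subgroup (center (S : Subgroup G))).exists_card_eq
    obtain ⟨z, hz⟩ := exists_prime_orderOf_dvd_card' (G := center (S : Subgroup G)) 2 (by
      rw [hn]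
      refine dvd_pow_self 2 fun h0 => ?_
      rw [h0, pow_zero] at hn
      exact absurd hn (Finite.one_lt_card_iff_nontrivial.2 inferInstance).ne')
    exact ⟨_, (z : (S : Subgroup G)).2, by rw [orderOf_coe, orderOf_coe, hz],
      fun s hs => congrArg Subtype.val (mem_center_iff.1 z.2 ⟨s, hs⟩)⟩
  have ht1 : t ≠ 1 := fun e => by rw [e, orderOf_one] at ht; norm_num at ht
  set A : Subgroup G := centralizer ({t} : Set G) with hA
  have hmA : ∀ a, a ∈ A ↔ Commute a t := fun a => mem_centralizer_singleton_iff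
  have hAnil : Group.IsNilpotent A := hCN t ht1
  have hSA : (S : Subgroup G) ≤ A := fun s hs => (hmA s).2 (hts s hs)
  set N : Subgroup G := normalizer (A : Set G) with hN
  have hnorm : ∀ n ∈ N, ∀ a ∈ A, n * a * n⁻¹ ∈ A := fun n hn a ha => (mem_normalizer_iff.1 hn a).1 ha
  have hle : A ≤ N := le_normalizer
  have htiN : ∀ g a : G, a ∈ A → a ≠ 1 → g⁻¹ * a * g ∈ A → g ∈ N := by
    intro g a ha ha1 hb
    have := normalizes h ((hmA a).1 ha) ha1 (g := g⁻¹) (by rw [inv_inv]; exact (hmA _).1 hb)
    exact inv_inv g ▸ inv_mem this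
  have hcentN : ∀ a ∈ A, a ≠ 1 → ∀ c, Commute c a → c ∈ N := fun a ha ha1 c hc =>
    normalizes_of_commute h ((hmA a).1 ha) ha1 hc
  -- the Sylow `2`-subgroup is normal in `N`
  have htwo : ∀ n ∈ N, ∀ k, orderOf n = 2 ^ k → n ∈ A := by
    intro n hn k hk
    have hP : ∀ g ∈ N, ∀ s ∈ (S : Subgroup G), g * s * g⁻¹ ∈ (S : Subgroup G) := by
      intro g hg s hs
      have hp : IsPGroup 2 (zpowers (g * s * g⁻¹)) := by
        obtain ⟨j, hj⟩ := S.2 ⟨s, hs⟩
        have hs' : s ^ 2 ^ j = 1 := congrArg Subtype.val hj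
        obtain ⟨i, -, hi⟩ := (Nat.dvd_prime_pow Nat.prime_two).1
          (orderOf_dvd_of_pow_eq_one (show (g * s * g⁻¹) ^ 2 ^ j = 1 by rw [conj_pow, hs']; simp))
        exact IsPGroup.of_card (n := i) (by rw [Nat.card_zpowers, hi])
      exact OddLocal.pGroup_le_sylow_of_nilpotent hAnil S hSA
        (zpowers_le.2 (hnorm g hg s (hSA hs))) hp (mem_zpowers _)
    have hnp : IsPGroup 2 (zpowers n) := IsPGroup.of_card (n := k) (by rw [Nat.card_zpowers, hk])
    have hle' : zpowers n ≤ normalizer ((S : Subgroup G) : Set G) := by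
      refine zpowers_le.2 (mem_normalizer_iff.2 fun s => ⟨fun hs => hP n hn s hs, fun hs => ?_⟩)
      have := hP n⁻¹ (inv_mem hn) _ hs
      simpa [mul_assoc] using this
    have hsup := IsPGroup.to_sup_of_normal_right' hnp S.2 hle'
    exact hSA ((S.3 hsup le_sup_right) ▸ mem_sup_left (mem_zpowers n))
  have hti : ∀ a ∈ A, a ≠ 1 → ∀ c : G, Commute c a → c ∈ A := by
    intro a ha ha1 c hc
    refine mem_of_primePow_pow c fun x hx p k hp hxk => ?_
    have hxa : Commute x a := by
      obtain ⟨i, rfl⟩ := hx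
      exact hc.zpow_left i
    by_cases h2 : p = 2
    · subst h2
      exact htwo x (hcentN a ha ha1 x hxa) k hxk
    · exact (hmA x).2 (Basics.commute_of_coprime_le (hCN a ha1) (mem_centralizer_singleton_iff.2 hxa.eq)
        (mem_centralizer_singleton_iff.2 ((hmA a).1 ha).symm.eq)
        (by rw [hxk, ht]; exact ((Nat.coprime_primes hp Nat.prime_two).2 h2).pow_left k))
  have hord : ∀ n ∈ N, orderOf n ∣ Nat.card A → n ∈ A := by
    intro n hn hd
    refine mem_of_primePow_pow n fun x hx p k hp hxk => ?_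
    have hxN : x ∈ N := zpowers_le.2 hn hx
    rcases Nat.eq_zero_or_pos k with rfl | hk
    · rw [pow_zero] at hxk
      rw [orderOf_eq_one_iff.1 hxk]
      exact one_mem A
    haveI : Fact p.Prime := ⟨hp⟩
    have hpA : p ∣ Nat.card A :=
      ((dvd_pow_self p hk.ne').trans (hxk ▸ orderOf_dvd_of_mem_zpowers hx)).trans hd
    obtain ⟨P⟩ : Nonempty (Sylow p A) := inferInstance
    haveI hPn : (P : Subgroup A).Normal :=
      Sylow.normal_of_normalizerCondition Group.normalizerCondition_of_isNilpotent _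
    haveI := P.characteristic_of_normal hPn
    have hP : ∀ g ∈ N, ∀ b ∈ (P : Subgroup A).map A.subtype, g * b * g⁻¹ ∈ (P : Subgroup A).map A.subtype := by
      rintro g hg _ ⟨b, hb, rfl⟩
      let φ : A ≃* A :=
        { toFun := fun a => ⟨g * a * g⁻¹, hnorm g hg a a.2⟩
          invFun := fun a => ⟨g⁻¹ * a * g, by simpa using hnorm g⁻¹ (inv_mem hg) a a.2⟩
          left_inv := fun a => Subtype.ext (by group)
          right_inv := fun a => Subtype.ext (by group)
          map_mul' := fun a c => Subtype.ext (by simp [mul_assoc]) }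
      exact ⟨φ b, (characteristic_iff_map_eq.1 this φ) ▸ mem_map_of_mem _ hb, rfl⟩
    set P' := (P : Subgroup A).map A.subtype with hP'
    have hXp : IsPGroup p (zpowers x) := IsPGroup.of_card (n := k) (by rw [Nat.card_zpowers, hxk])
    letI : MulAction (zpowers x) P' :=
      { smul := fun g b => ⟨(g : G) * b * (g : G)⁻¹, hP g (zpowers_le.2 hxN g.2) b b.2⟩
        one_smul := fun b => Subtype.ext (by show ((1 : zpowers x) : G) * b * _⁻¹ = b; simp)
        mul_smul := fun g g' b => Subtype.ext (by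
          show ((g * g' : zpowers x) : G) * b * _⁻¹ = g * (g' * b * (g' : G)⁻¹) * (g : G)⁻¹
          simp [mul_assoc]) }
    have hdvd : p ∣ Nat.card P' := by
      rw [card_map_of_injective A.subtype_injective, P.card_eq_multiplicity]
      exact dvd_pow_self p (hp.factorization_pos_of_dvd Nat.card_pos.ne' hpA).ne'
    obtain ⟨b, hb, hb1⟩ := hXp.exists_fixed_point_of_prime_dvd_card_of_fixed_point P' hdvd
      (a := (1 : P')) (fun g => Subtype.ext (show (g : G) * ((1 : P') : G) * (g : G)⁻¹ = _ by simp))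
    refine hti (b : G) (map_subtype_le _ b.2) (fun e => hb1 (Subtype.ext e.symm)) x ?_
    exact mul_inv_eq_iff_eq_mul.1 (congrArg Subtype.val (hb ⟨x, mem_zpowers x⟩))
  have htA : t ∈ A := (hmA t).2 (Commute.refl t)
  have h2A : 2 ∣ Nat.card A := ht ▸ orderOf_dvd_natCard A htA
  have hinv : ∀ u : G, orderOf u = 2 → u ∈ N → u ∈ A := fun u hu huN => hord u huN (hu ▸ h2A)
  have hNtop : N ≠ ⊤ := by
    intro e
    haveI : A.Normal := normalizer_eq_top_iff.1 e
    haveI := hAnil
    have hq : Cfsg.IsCNGroup (G ⧸ A) := S1473.result hCN A inferInstance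
    have hodd : Odd (Nat.card (G ⧸ A)) := by
      rw [← index_eq_card]
      exact Nat.odd_iff.2 (Nat.two_dvd_ne_zero.1 fun h2 =>
        S.not_dvd_index (h2.trans (index_dvd_of_le hSA)))
    haveI := S0183.result hodd hq
    exact hns (solvable_of_ker_le_range A.subtype (QuotientGroup.mk' A) (by simp))
  have hNA : N ≠ A := by
    intro e
    have hF : Cfsg.IsFrobeniusComplement A := by
      refine ⟨fun hb => ?_, fun hb => hNtop (by rw [e, hb]), fun g hg => ?_⟩
      · rw [hb] at htA
        exact ht1 (mem_bot.1 htA)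
      · rw [eq_bot_iff]
        intro a ha
        by_contra ha1
        obtain ⟨haA, hag⟩ := ha
        have hag' := mem_pointwise_smul_iff_inv_smul_mem.1 hag
        refine hg (e ▸ htiN g a haA ha1 ?_)
        simpa [MulAut.smul_def, MulAut.conj_apply, mul_assoc] using hag'
    obtain ⟨K, -, hK, hKc, hKi⟩ := Basics.frobenius_kernel_exists hF
    haveI := hK
    have hKodd : Odd (Nat.card K) := by
      rw [hKi]
      exact Nat.odd_iff.2 (Nat.two_dvd_ne_zero.1 fun h2 =>
        S.not_dvd_index (h2.trans (index_dvd_of_le hSA)))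
    have hKCN : Cfsg.IsCNGroup K := by
      intro x hx
      haveI := hCN (x : G) (fun e => hx (Subtype.ext e))
      let f : centralizer ({x} : Set K) →* centralizer ({(x : G)} : Set G) :=
        ((K.subtype).comp (Subgroup.subtype _)).codRestrict _ fun c =>
          mem_centralizer_singleton_iff.2 (congrArg Subtype.val (mem_centralizer_singleton_iff.1 c.2) : _)
      exact Subgroup.isNilpotent_of_ker_le_center f (by
        rw [(MonoidHom.ker_eq_bot_iff f).2 fun a b hab => Subtype.ext (Subtype.ext (congrArg Subtype.val hab :))]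
        exact bot_le)
    haveI := S0183.result hKodd hKCN
    haveI := hAnil
    haveI : Group.IsSolvable (G ⧸ K) :=
      solvable_of_surjective (f := (QuotientGroup.mk' K).comp A.subtype) fun q => by
        obtain ⟨g, rfl⟩ := QuotientGroup.mk_surjective q
        obtain ⟨⟨k, a⟩, hka⟩ := hKc.2 g
        refine ⟨a, (QuotientGroup.eq.2 ?_)⟩
        have hka' : (k : G) * a = g := hka
        show (a : G)⁻¹ * g ∈ K
        rw [← hka', show (a : G)⁻¹ * (k * a) = (a : G)⁻¹ * k * ((a : G)⁻¹)⁻¹ by group]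
        exact hK.conj_mem _ k.2 _
    exact hns (solvable_of_ker_le_range K.subtype (QuotientGroup.mk' K) (by simp))
  refine ⟨⟨N, A, t, hle, hti, hnorm, htiN, hord, ht, htA, hinv, ⟨hNtop, ?_, ?_⟩, hNA⟩, rfl⟩
  · exact even_iff_two_dvd.2 (ht ▸ orderOf_dvd_natCard N (hle htA))
  · intro g hg
    by_contra hev
    obtain ⟨u, hu⟩ := exists_prime_orderOf_dvd_card' 2 (even_iff_two_dvd.1 (Nat.not_odd_iff_even.1 hev))
    obtain ⟨huN, v, hvN, hvu⟩ := u.2
    change g * v * g⁻¹ = (u : G) at hvu
    have hu' : orderOf (u : G) = 2 := by rw [orderOf_coe, hu]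
    have hu1 : (u : G) ≠ 1 := fun h => by rw [h, orderOf_one] at hu'; norm_num at hu'
    have hv : orderOf v = 2 := by
      rw [← hu', ← hvu, ← MulAut.conj_apply, MulEquiv.orderOf_eq]
    refine hg (htiN g u (hinv _ hu' huN) hu1 ?_)
    rw [← hvu, show g⁻¹ * (g * v * g⁻¹) * g = v by group]
    exact hinv v hv hvN

end Nonsolvable

end Cfsg.Agent.Recog.TICent
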